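import Mathlib

/-!
`A_f` is a Jacobson ring for Noetherian `A` and `f` in the Jacobson radical.
-/

set_option autoImplicit false

namespace Groth.Agent.EtAlg

universe u

/-- In a Noetherian domain where every nonzero prime contains a fixed nonzero element, nonzero primes are maximal. -/
theorem isMaximal_of_forall_mem (C : Type u) [CommRing C] [IsDomain C] [IsNoetherianRing C] (h : C) (h0 : h ≠ 0)
    (hall : ∀ P : Ideal C, P.IsPrime → P ≠ ⊥ → h ∈ P) (M : Ideal C) [M.IsPrime] (hM : M ≠ ⊥) : M.IsMaximal := by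
  classical
  have key : ∀ N : Ideal C, N.IsPrime → N ≠ ⊥ → N ∈ (Ideal.span {h}).minimalPrimes := by
    intro N hN hN0
    have hfin : ((Ideal.span {h}).minimalPrimes).Finite := Ideal.finite_minimalPrimes_of_isNoetherianRing C _
    have hcov : (N : Set C) ⊆ ⋃ Q ∈ hfin.toFinset, (Q : Set C) := fun x hx => by
      rcases eq_or_ne x 0 with rfl | hx0
      · obtain ⟨Q, hQ, -⟩ := Ideal.exists_minimalPrimes_le (Ideal.span_le.2 (Set.singleton_subset_iff.2 (hall N hN hN0)) : Ideal.span {h} ≤ N)
        exact Set.mem_iUnion₂.2 ⟨Q, hfin.mem_toFinset.2 hQ, Q.zero_mem⟩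
      obtain ⟨P, hP, hPN⟩ := Ideal.exists_minimalPrimes_le (Ideal.span_le.2 (Set.singleton_subset_iff.2 hx) : Ideal.span {x} ≤ N)
      haveI : P.IsPrime := hP.1.1
      have hxP : x ∈ P := hP.1.2 (Ideal.mem_span_singleton_self x)
      have hP0 : P ≠ ⊥ := fun e => hx0 ((Submodule.mem_bot C).1 (e ▸ hxP))
      obtain ⟨Q, hQ, hQP⟩ := Ideal.exists_minimalPrimes_le (Ideal.span_le.2 (Set.singleton_subset_iff.2 (hall P inferInstance hP0)) : Ideal.span {h} ≤ P)
      haveI : Q.IsPrime := hQ.1.1
      rcases hQP.eq_or_lt with e | hlt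
      · exact Set.mem_iUnion₂.2 ⟨Q, hfin.mem_toFinset.2 hQ, e ▸ hxP⟩
      · exfalso
        haveI : (Ideal.span {x}).IsPrincipal := ⟨⟨x, rfl⟩⟩
        have h1 : P.height ≤ 1 := Ideal.height_le_one_of_isPrincipal_of_mem_minimalPrimes (Ideal.span {x}) P hP
        have h2 : Q.height + 1 ≤ P.height := Ideal.height_add_one_le_of_lt_of_isPrime hlt
        have hQ0 : Q.height ≠ 0 := fun e => h0 ((Submodule.mem_bot C).1
          (Ideal.height_eq_zero_iff_eq_bot.1 e ▸ hQ.1.2 (Ideal.mem_span_singleton_self h)))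
        have h3 : (1 : ℕ∞) + 1 ≤ 1 := (add_le_add_left (ENat.one_le_iff_ne_zero.2 hQ0) 1).trans (h2.trans h1)
        exact absurd h3 (by decide)
    obtain ⟨Q, hQ, hNQ⟩ := (Ideal.subset_union_prime (R := C) ⊥ ⊥ (fun Q hQ _ _ => (hfin.mem_toFinset.1 hQ).1.1)).1 hcov
    have hQ' := hfin.mem_toFinset.1 hQ
    obtain rfl : N = Q := le_antisymm hNQ (hQ'.2 ⟨hN, Ideal.span_le.2 (Set.singleton_subset_iff.2 (hall N hN hN0))⟩ hNQ)
    exact hQ'
  obtain ⟨m, hm, hMm⟩ := Ideal.exists_le_maximal M Ideal.IsPrime.ne_top'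
  have hm0 : m ≠ ⊥ := fun e => hM (le_bot_iff.1 (e ▸ hMm))
  have hle := (key m hm.isPrime hm0).2 (key M inferInstance hM).1 hMm
  rwa [le_antisymm hMm hle]

theorem isJacobsonRing_away (A : Type u) [CommRing A] [IsNoetherianRing A] (f : A)
    (hf : f ∈ (⊥ : Ideal A).jacobson) : IsJacobsonRing (Localization.Away f) := by
  let R := Localization.Away f
  refine isJacobsonRing_iff_prime_eq.2 fun P hP => le_antisymm (fun g hg => ?_) Ideal.le_jacobson
  by_contra hgP
  obtain ⟨g0, ⟨s, hs⟩, hgs⟩ := IsLocalization.exists_mk'_eq (Submonoid.powers f) g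
  -- a maximal ideal among those avoiding `g`
  have hne : (P.map (algebraMap R (Localization.Away g))) ≠ ⊤ := by
    haveI := hP
    haveI : (P.map (algebraMap R (Localization.Away g))).IsPrime :=
      IsLocalization.isPrime_of_isPrime_disjoint (Submonoid.powers g) _ P hP
        ((Ideal.disjoint_powers_iff_notMem_of_isPrime g).2 hgP)
    exact Ideal.IsPrime.ne_top'
  obtain ⟨m, hm, hPm⟩ := Ideal.exists_le_maximal _ hne
  let Q := m.comap (algebraMap R (Localization.Away g))
  haveI : Q.IsPrime := Ideal.IsPrime.comap _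
  have hPQ : P ≤ Q := Ideal.map_le_iff_le_comap.1 hPm
  have hgQ : g ∉ Q := fun h => hm.ne_top (Ideal.eq_top_of_isUnit_mem _ h (IsLocalization.Away.algebraMap_isUnit g))
  have hQmax : ∀ Q' : Ideal R, Q'.IsPrime → Q ≤ Q' → g ∉ Q' → Q' = Q := by
    intro Q' hQ' hle hgQ'
    have hd := (Ideal.disjoint_powers_iff_notMem_of_isPrime g).2 hgQ'
    haveI := IsLocalization.isPrime_of_isPrime_disjoint (Submonoid.powers g) (Localization.Away g) Q' hQ' hd
    have e : m = Q'.map (algebraMap R (Localization.Away g)) :=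
      hm.eq_of_le Ideal.IsPrime.ne_top' (by
        rw [← IsLocalization.map_comap (Submonoid.powers g) _ m]
        exact Ideal.map_mono hle)
    exact (IsLocalization.comap_map_of_isPrime_disjoint (Submonoid.powers g) _ hQ' hd).symm.trans (congrArg _ e.symm)
  let q := Q.comap (algebraMap A R)
  haveI : q.IsPrime := Ideal.IsPrime.comap _
  have hfu : IsUnit (algebraMap A R f) := IsLocalization.Away.algebraMap_isUnit f
  have hfq : f ∉ q := fun h => (Ideal.IsPrime.ne_top' (I := Q)) (Ideal.eq_top_of_isUnit_mem _ h hfu)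
  have hg0q : g0 ∉ q := fun h => hgQ (by
    rw [← hgs]
    exact (IsLocalization.mk'_mem_iff).2 h)
  -- primes strictly above `q` contain `f * g0`
  have hup : ∀ q' : Ideal A, q'.IsPrime → q ≤ q' → q' ≠ q → f * g0 ∈ q' := by
    intro q' hq' hle hne'
    by_contra hn
    have hfq' : f ∉ q' := fun h => hn (q'.mul_mem_right _ h)
    have hd := (Ideal.disjoint_powers_iff_notMem_of_isPrime f).2 hfq'
    haveI := IsLocalization.isPrime_of_isPrime_disjoint (Submonoid.powers f) R q' hq' hd
    have hc := IsLocalization.comap_map_of_isPrime_disjoint (Submonoid.powers f) R hq' hd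
    refine hne' ?_
    rw [← hc]
    refine congrArg _ (hQmax _ inferInstance ?_ fun h => ?_)
    · rw [← IsLocalization.map_comap (Submonoid.powers f) R Q]
      exact Ideal.map_mono hle
    · rw [← hgs, IsLocalization.mk'_mem_iff, ← Ideal.mem_comap] at h
      exact hn (q'.mul_mem_left _ (hc.le h))
  have hmaxA : ∀ q' : Ideal A, q'.IsPrime → q ≤ q' → q' ≠ q → f ∈ q' := by
    intro q' hq' hle hne'
    let π := Ideal.Quotient.mk q
    haveI : (q'.map π).IsPrime := Ideal.map_isPrime_of_surjective Ideal.Quotient.mk_surjective (by rwa [Ideal.mk_ker])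
    have hcm : (q'.map π).comap π = q' := by
      rw [Ideal.comap_map_of_surjective _ Ideal.Quotient.mk_surjective, ← RingHom.ker_eq_comap_bot, Ideal.mk_ker,
        sup_eq_left.2 hle]
    have hmaxq : (q'.map π).IsMaximal := by
      refine isMaximal_of_forall_mem (A ⧸ q) (π (f * g0)) ?_ (fun P hP' hP0 => ?_) _ fun e => ?_
      · rw [ne_eq, Ideal.Quotient.eq_zero_iff_mem]
        exact fun h => (Ideal.IsPrime.mem_or_mem inferInstance h).elim hfq hg0q
      · refine Ideal.mem_comap.1 (hup (P.comap π) (Ideal.IsPrime.comap _) (fun a ha => ?_) fun e => hP0 ?_)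
        · rw [Ideal.mem_comap, Ideal.Quotient.eq_zero_iff_mem.2 ha]
          exact P.zero_mem
        · rw [← Ideal.map_comap_of_surjective π Ideal.Quotient.mk_surjective P, e, Ideal.map_quotient_self]
      · rw [← hcm, e, ← RingHom.ker_eq_comap_bot, Ideal.mk_ker] at hne'
        exact hne' rfl
    have : q'.IsMaximal := hcm ▸ Ideal.comap_isMaximal_of_surjective π Ideal.Quotient.mk_surjective
    exact (Submodule.mem_sInf.1 hf) q' ⟨bot_le, this⟩
  have hQmax' : Q.IsMaximal := by
    obtain ⟨M, hM, hQM⟩ := Ideal.exists_le_maximal Q Ideal.IsPrime.ne_top'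
    have e : M.comap (algebraMap A R) = q := by
      by_contra hne'
      have := hmaxA _ (Ideal.IsPrime.comap _ (hK := hM.isPrime)) (Ideal.comap_mono hQM) hne'
      exact hM.ne_top (Ideal.eq_top_of_isUnit_mem _ this hfu)
    have hQe : Q = M := by
      rw [← IsLocalization.map_comap (Submonoid.powers f) R Q, ← IsLocalization.map_comap (Submonoid.powers f) R M]
      exact congrArg _ e.symm
    rwa [hQe]
  exact hgQ ((Submodule.mem_sInf.1 hg) Q ⟨hPQ, hQmax'⟩)

end Groth.Agent.EtAlg
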